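import Groth.Agent.SpinNodeLib.Power

/-!
# The matrix `α(p, q)` in coordinates
-/

universe u

namespace Groth.Agent.SpinNodeLib

open SpinCurv

variable {R : Type u} [CommRing R] {I : Ideal R} [IsAdicComplete I R] {p q : R}

theorem algebraMap_eq_const (π r : R) (hπ : π ∈ I) (z : ℤ) :
    coord hπ (algebraMap R (NodeRing R π) r) z = if z = 0 then r else 0 := by
  rw [show algebraMap R (NodeRing R π) r = NodeRing.ofX R π (PowerSeries.C r) from
    congrArg (Ideal.Quotient.mk _) (PowerSeries.toMvPowerSeries_C (σ := Fin 2) 0 r).symm, coord_ofX]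
  simp only [PowerSeries.coeff_C]
  split_ifs <;> first | rfl | omega

variable (hπ : p * q ∈ I)

theorem coord_alpha (a b : NodeRing R (p * q)) (z : ℤ) :
    coord hπ (Matrix.mulVec (nodeAlpha R p q) ![a, b] 0) z =
      (if 0 < z then 1 else p * q) * coord hπ a (z - 1) + p * coord hπ b z ∧
    coord hπ (Matrix.mulVec (nodeAlpha R p q) ![a, b] 1) z =
      q * coord hπ a z + (if z < 0 then 1 else p * q) * coord hπ b (z + 1) := by
  constructor
  · simp only [nodeAlpha, Matrix.mulVec, dotProduct, Fin.sum_univ_two, Matrix.of_apply, Matrix.cons_val_zero,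
      Matrix.cons_val_one]
    rw [map_add, Pi.add_apply, coord_x_mul, coord_algebraMap_mul]
  · simp only [nodeAlpha, Matrix.mulVec, dotProduct, Fin.sum_univ_two, Matrix.of_apply, Matrix.cons_val_zero,
      Matrix.cons_val_one]
    rw [map_add, Pi.add_apply, coord_y_mul, coord_algebraMap_mul]

include hπ in
/-- Normal form modulo the two obvious relations. -/
theorem exists_reduce (a b : NodeRing R (p * q)) :
    ∃ u v : NodeRing R (p * q),
      (∀ z < 0, coord hπ (a - (algebraMap R _ p * u + NodeRing.y R (p * q) * v)) z = 0) ∧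
      (∀ z, 0 < z → coord hπ (b + (NodeRing.x R (p * q) * u + algebraMap R _ q * v)) z = 0) ∧
      (∀ z < 0, coord hπ u z = 0) ∧ (∀ z, 0 < z → coord hπ v z = 0) ∧
      (∀ z, 0 ≤ z → coord hπ u z = -coord hπ b (z + 1)) ∧ (∀ z ≤ 0, coord hπ v z = coord hπ a (z - 1)) := by
  let f : PowerSeries R := PowerSeries.mk fun n => -coord hπ b ((n : ℤ) + 1)
  let g : PowerSeries R := PowerSeries.mk fun n => coord hπ a (-(n : ℤ) - 1)
  let u := NodeRing.ofX R (p * q) f
  let v := NodeRing.ofY R (p * q) g
  have hu : ∀ z, coord hπ u z = if 0 ≤ z then -coord hπ b (z + 1) else 0 := by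
    intro z
    rw [coord_ofX, PowerSeries.coeff_mk]
    split_ifs with h
    · rw [show (z.toNat : ℤ) = z by omega]
    · rfl
  have hv : ∀ z, coord hπ v z = if z ≤ 0 then coord hπ a (z - 1) else 0 := by
    intro z
    rw [coord_ofY, PowerSeries.coeff_mk]
    split_ifs with h
    · rw [show -((-z).toNat : ℤ) = z by omega]
    · rfl
  refine ⟨u, v, fun z hz => ?_, fun z hz => ?_, fun z hz => ?_, fun z hz => ?_, fun z hz => ?_, fun z hz => ?_⟩
  · rw [map_sub, map_add, Pi.sub_apply, Pi.add_apply, coord_algebraMap_mul, coord_y_mul, hu, hv, if_neg (by omega),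
      if_pos hz, if_pos (by omega), show z + 1 - 1 = z by ring]
    ring
  · rw [map_add, map_add, Pi.add_apply, Pi.add_apply, coord_algebraMap_mul, coord_x_mul, hu, hv, if_pos hz,
      if_pos (by omega), if_neg (by omega), show z - 1 + 1 = z by ring]
    ring
  · rw [hu, if_neg (by omega)]
  · rw [hv, if_neg (by omega)]
  · rw [hu, if_pos hz]
  · rw [hv, if_pos hz]

theorem alpha_rel (u v : NodeRing R (p * q)) :
    Matrix.mulVec (nodeAlpha R p q) ![algebraMap R _ p * u + NodeRing.y R (p * q) * v,
      -(NodeRing.x R (p * q) * u + algebraMap R _ q * v)] = 0 := by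
  have hxy : NodeRing.x R (p * q) * NodeRing.y R (p * q) =
      algebraMap R (NodeRing R (p * q)) p * algebraMap R (NodeRing R (p * q)) q := by
    rw [← map_mul (algebraMap R (NodeRing R (p * q))), ← sub_eq_zero]
    let J := Ideal.span {(MvPowerSeries.X 0 * MvPowerSeries.X 1 - MvPowerSeries.C (p * q) : MvPowerSeries (Fin 2) R)}
    change Ideal.Quotient.mk J (MvPowerSeries.X 0) * Ideal.Quotient.mk J (MvPowerSeries.X 1) -
      Ideal.Quotient.mk J (MvPowerSeries.C (p * q)) = 0
    rw [← map_mul, ← map_sub, Ideal.Quotient.eq_zero_iff_mem]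
    exact Ideal.subset_span rfl
  funext i
  fin_cases i <;>
    simp only [nodeAlpha, Matrix.mulVec, dotProduct, Fin.sum_univ_two, Matrix.of_apply, Matrix.cons_val_zero,
      Matrix.cons_val_one, Pi.zero_apply, Fin.zero_eta, Fin.mk_one]
  · linear_combination v * hxy
  · linear_combination (-u) * hxy

end Groth.Agent.SpinNodeLib
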