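import Groth.Prelude.Def_W4c5spincurvestfNode
import Mathlib

/-!
# The monomial basis of `R[x, y]/(xy - π)` and sections on the blown-up node
-/

universe u

namespace Groth.Agent.SpinNodeLib

open SpinCurv

variable {R : Type u} [CommRing R]

/-- The monomial with signed exponent `z`. -/
noncomputable def emon (π : R) (z : ℤ) : PolyNodeRing R π :=
  PolyNodeRing.x R π ^ z.toNat * PolyNodeRing.y R π ^ (-z).toNat

theorem xy_eq (π : R) :
    PolyNodeRing.x R π * PolyNodeRing.y R π = algebraMap R (PolyNodeRing R π) π := by
  rw [← sub_eq_zero, ← map_mul]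
  exact Ideal.Quotient.eq_zero_iff_mem.2 (Ideal.subset_span rfl)

theorem monomial_eq (π : R) (i j : ℕ) :
    PolyNodeRing.x R π ^ i * PolyNodeRing.y R π ^ j =
      algebraMap R (PolyNodeRing R π) (π ^ min i j) * emon π ((i : ℤ) - j) := by
  rcases le_total j i with h | h
  · rw [min_eq_right h, emon, show ((i : ℤ) - j).toNat = i - j by omega, show (-((i : ℤ) - j)).toNat = 0 by omega,
      map_pow, ← xy_eq, pow_zero, mul_one, mul_pow, mul_comm (PolyNodeRing.x R π ^ j) _, mul_assoc, ← pow_add,
      Nat.add_sub_cancel' h, mul_comm]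
  · rw [min_eq_left h, emon, show ((i : ℤ) - j).toNat = 0 by omega, show (-((i : ℤ) - j)).toNat = j - i by omega,
      map_pow, ← xy_eq, pow_zero, one_mul, mul_pow, mul_assoc, ← pow_add, Nat.add_sub_cancel' h]

/-- Coordinates of a monomial. -/
noncomputable def nuVal (π : R) (s : Fin 2 →₀ ℕ) : ℤ →₀ R :=
  Finsupp.single ((s 0 : ℤ) - s 1) (π ^ min (s 0) (s 1))

/-- Coordinates, before passing to the quotient. -/
noncomputable def nu (π : R) : MvPolynomial (Fin 2) R →ₗ[R] ℤ →₀ R :=
  (MvPolynomial.basisMonomials (Fin 2) R).constr R (nuVal π)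

theorem nu_monomial (π : R) (s : Fin 2 →₀ ℕ) (r : R) : nu π (MvPolynomial.monomial s r) = r • nuVal π s := by
  rw [show MvPolynomial.monomial s r = r • (MvPolynomial.basisMonomials (Fin 2) R) s by
    simp [MvPolynomial.smul_monomial], map_smul, nu, Module.Basis.constr_basis]

/-- The monomial basis. -/
theorem exists_basis (π : R) : ∃ B : Module.Basis ℤ R (PolyNodeRing R π), ∀ z, B z = emon π z := by
  let μ : (ℤ →₀ R) →ₗ[R] PolyNodeRing R π := Finsupp.linearCombination R (emon π)
  have hker : ∀ p ∈ Ideal.span {(MvPolynomial.X 0 * MvPolynomial.X 1 - MvPolynomial.C π : MvPolynomial (Fin 2) R)},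
      nu π p = 0 := by
    intro p hp
    obtain ⟨c, rfl⟩ := Ideal.mem_span_singleton.1 hp
    clear hp
    induction c using MvPolynomial.induction_on' with
    | add a b ha hb => rw [mul_add, map_add, ha, hb, add_zero]
    | monomial s r =>
      rw [sub_mul, map_sub, MvPolynomial.X, MvPolynomial.X, MvPolynomial.monomial_mul, MvPolynomial.monomial_mul,
        MvPolynomial.C_mul_monomial, nu_monomial, nu_monomial]
      simp only [nuVal, Finsupp.add_apply, Finsupp.single_eq_same, one_mul,
        Finsupp.single_eq_of_ne (show (0 : Fin 2) ≠ 1 by decide),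
        Finsupp.single_eq_of_ne (show (1 : Fin 2) ≠ 0 by decide), add_zero, zero_add, Finsupp.smul_single,
        smul_eq_mul]
      rw [show ((1 + s 0 : ℕ) : ℤ) - ((1 + s 1 : ℕ) : ℤ) = (s 0 : ℤ) - s 1 by push_cast; ring,
        show min (1 + s 0) (1 + s 1) = min (s 0) (s 1) + 1 by omega, sub_eq_zero]
      congr 1
      ring
  let ν : PolyNodeRing R π →ₗ[R] ℤ →₀ R :=
    (Submodule.liftQ (((Ideal.span {(MvPolynomial.X 0 * MvPolynomial.X 1 - MvPolynomial.C π :
      MvPolynomial (Fin 2) R)})).restrictScalars R) (nu π) hker).comp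
        (Submodule.Quotient.restrictScalarsEquiv R _).symm.toLinearMap
  have hν : ∀ p, ν (Ideal.Quotient.mk _ p) = nu π p := fun p => rfl
  have h1 : ∀ v, ν (μ v) = v := by
    intro v
    induction v using Finsupp.induction_linear with
    | zero => rw [map_zero, map_zero]
    | add a b ha hb => rw [map_add, map_add, ha, hb]
    | single z r =>
      rw [Finsupp.linearCombination_single, map_smul,
        show emon π z = Ideal.Quotient.mk _ (MvPolynomial.monomial
          (Finsupp.single 0 z.toNat + Finsupp.single 1 (-z).toNat) (1 : R)) by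
          rw [emon, PolyNodeRing.x, PolyNodeRing.y, ← map_pow, ← map_pow, ← map_mul, MvPolynomial.X_pow_eq_monomial,
            MvPolynomial.X_pow_eq_monomial, MvPolynomial.monomial_mul, one_mul], hν, nu_monomial]
      simp only [nuVal, Finsupp.add_apply, Finsupp.single_eq_same, Finsupp.smul_single, smul_eq_mul,
        Finsupp.single_eq_of_ne (show (0 : Fin 2) ≠ 1 by decide),
        Finsupp.single_eq_of_ne (show (1 : Fin 2) ≠ 0 by decide), add_zero, zero_add]
      rw [show (z.toNat : ℤ) - ((-z).toNat : ℤ) = z by omega, show min z.toNat (-z).toNat = 0 by omega,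
        pow_zero, one_mul, mul_one]
  have h2 : ∀ p, μ (ν (Ideal.Quotient.mk _ p)) = Ideal.Quotient.mk _ p := by
    intro p
    induction p using MvPolynomial.induction_on' with
    | add a b ha hb => rw [map_add, map_add, map_add, ha, hb]
    | monomial s r =>
      rw [hν, nu_monomial, map_smul, nuVal, Finsupp.linearCombination_single, smul_smul,
        MvPolynomial.monomial_eq, Finsupp.prod_fintype _ _ (fun i => pow_zero _), Fin.prod_univ_two, map_mul,
        map_mul, map_pow, map_pow]
      rw [show Ideal.Quotient.mk (Ideal.span {(MvPolynomial.X 0 * MvPolynomial.X 1 - MvPolynomial.C π :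
          MvPolynomial (Fin 2) R)}) (MvPolynomial.C r) = algebraMap R (PolyNodeRing R π) r from rfl,
        monomial_eq, ← mul_assoc, ← map_mul]
      obtain ⟨w, hw⟩ := Ideal.Quotient.mk_surjective (emon π ((s 0 : ℤ) - s 1))
      rw [← hw]
      change Ideal.Quotient.mk _ ((r * π ^ min (s 0) (s 1)) • w) = Ideal.Quotient.mk _ (MvPolynomial.C _) * _
      rw [MvPolynomial.smul_eq_C_mul, map_mul]
  refine ⟨Module.Basis.ofRepr (LinearEquiv.ofLinear ν μ (LinearMap.ext h1) (LinearMap.ext fun y => ?_)), fun z => ?_⟩
  · obtain ⟨p, rfl⟩ := Ideal.Quotient.mk_surjective y; exact h2 p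
  · change μ (Finsupp.single z 1) = _
    rw [Finsupp.linearCombination_single, one_smul]

variable {p q : R}

/-- Coefficient on the chart `U`. -/
def cU (q : R) (z : ℤ) : R := q ^ (-z).toNat

theorem map_emon_pos {S : Type*} [CommRing S] [Algebra R S] (g : PolyNodeRing R p →ₐ[R] S) (z : ℤ) :
    g (emon p z) = g (PolyNodeRing.x R p) ^ z.toNat * g (PolyNodeRing.y R p) ^ (-z).toNat := by
  rw [emon, map_mul, map_pow, map_pow]

variable (gU : PolyNodeRing R q →ₐ[R] LaurentPolynomial R)
  (hgUs : gU (PolyNodeRing.x R q) = LaurentPolynomial.T 1)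
  (hgUy : gU (PolyNodeRing.y R q) = LaurentPolynomial.C q * LaurentPolynomial.T (-1))
  (gV : PolyNodeRing R p →ₐ[R] LaurentPolynomial R)
  (hgVt : gV (PolyNodeRing.x R p) = LaurentPolynomial.T (-1))
  (hgVx : gV (PolyNodeRing.y R p) = LaurentPolynomial.C p * LaurentPolynomial.T 1)

include hgUs hgUy in
theorem gU_emon (z : ℤ) : gU (emon q z) = LaurentPolynomial.C (cU q z) * LaurentPolynomial.T z := by
  rw [map_emon_pos, hgUs, hgUy, mul_pow, LaurentPolynomial.T_pow, LaurentPolynomial.T_pow, ← map_pow, cU,
    mul_left_comm, ← LaurentPolynomial.T_add]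
  congr 2
  omega

include hgVt hgVx in
theorem gV_emon (z : ℤ) : gV (emon p z) = LaurentPolynomial.C (cU p z) * LaurentPolynomial.T (-z) := by
  rw [map_emon_pos, hgVt, hgVx, mul_pow, LaurentPolynomial.T_pow, LaurentPolynomial.T_pow, ← map_pow, cU,
    mul_left_comm, ← LaurentPolynomial.T_add]
  congr 2
  omega

/-- The first chart of the parametrisation of sections of `O(n)`. -/
noncomputable def secU (p q : R) (n z : ℤ) : PolyNodeRing R q :=
  (if 0 ≤ z then cU p (n - z) else 1) • emon q z

/-- The second chart of the parametrisation. -/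
noncomputable def secV (p q : R) (n z : ℤ) : PolyNodeRing R p :=
  (if 0 ≤ z then 1 else cU q z) • emon p (n - z)

include hgUs hgUy hgVt hgVx in
/-- Sections of `O(n)` are freely parametrised. -/
theorem sections (n : ℤ) (hn : -1 ≤ n) :
    Function.Injective (fun u : ℤ →₀ R =>
        (Finsupp.linearCombination R (secU p q n) u, Finsupp.linearCombination R (secV p q n) u)) ∧
      ∀ g f, gU g = LaurentPolynomial.T n * gV f ↔
        ∃ u : ℤ →₀ R, Finsupp.linearCombination R (secU p q n) u = g ∧
          Finsupp.linearCombination R (secV p q n) u = f := by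
  classical
  obtain ⟨BU, hBU⟩ := exists_basis q
  obtain ⟨BV, hBV⟩ := exists_basis p
  have hcoef1 : ∀ g z, (gU g : AddMonoidAlgebra R ℤ).coeff z = cU q z * BU.repr g z := by
    intro g z
    conv_lhs => rw [← BU.linearCombination_repr g]
    generalize BU.repr g = u
    induction u using Finsupp.induction_linear with
    | zero => simp
    | add a b ha hb => rw [map_add, map_add, AddMonoidAlgebra.coeff_add, Finsupp.add_apply, ha, hb, Finsupp.add_apply, mul_add]
    | single w r =>
      rw [Finsupp.linearCombination_single, map_smul, hBU, gU_emon gU hgUs hgUy,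
        ← LaurentPolynomial.single_eq_C_mul_T, AddMonoidAlgebra.smul_single, AddMonoidAlgebra.coeff_single,
        Finsupp.single_apply, Finsupp.single_apply]
      split_ifs with h
      · rw [h, smul_eq_mul, mul_comm]
      · rw [mul_zero]
  have hcoef2 : ∀ f z, (LaurentPolynomial.T n * gV f : AddMonoidAlgebra R ℤ).coeff z = cU p (n - z) * BV.repr f (n - z) := by
    intro f z
    conv_lhs => rw [← BV.linearCombination_repr f]
    generalize BV.repr f = u
    induction u using Finsupp.induction_linear with
    | zero => simp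
    | add a b ha hb =>
      rw [map_add, map_add, mul_add, AddMonoidAlgebra.coeff_add, Finsupp.add_apply, ha, hb, Finsupp.add_apply, mul_add]
    | single w r =>
      rw [Finsupp.linearCombination_single, map_smul, hBV, gV_emon gV hgVt hgVx, mul_smul_comm,
        mul_left_comm, ← LaurentPolynomial.T_add, ← LaurentPolynomial.single_eq_C_mul_T,
        AddMonoidAlgebra.smul_single, AddMonoidAlgebra.coeff_single, Finsupp.single_apply, Finsupp.single_apply]
      split_ifs with h1 h2 h2
      · rw [h2, smul_eq_mul, mul_comm]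
      · omega
      · omega
      · rw [mul_zero]
  let ΦU := Finsupp.linearCombination R (secU p q n)
  let ΦV := Finsupp.linearCombination R (secV p q n)
  have hU : ∀ u z, BU.repr (ΦU u) z = (if 0 ≤ z then cU p (n - z) else 1) * u z := by
    intro u z
    induction u using Finsupp.induction_linear with
    | zero => simp
    | add a b ha hb => rw [map_add, map_add, Finsupp.add_apply, ha, hb, Finsupp.add_apply, mul_add]
    | single w r =>
      rw [Finsupp.linearCombination_single, secU, ← hBU, map_smul, map_smul, BU.repr_self, Finsupp.smul_apply,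
        Finsupp.smul_apply, Finsupp.single_apply, Finsupp.single_apply, smul_eq_mul, smul_eq_mul]
      by_cases h1 : w = z
      · subst h1; simp only [if_pos]; ring
      · simp only [if_neg h1, mul_zero]
  have hV : ∀ u z, BV.repr (ΦV u) z = (if 0 ≤ n - z then 1 else cU q (n - z)) * u (n - z) := by
    intro u z
    induction u using Finsupp.induction_linear with
    | zero => simp
    | add a b ha hb => rw [map_add, map_add, Finsupp.add_apply, ha, hb, Finsupp.add_apply, mul_add]
    | single w r =>
      rw [Finsupp.linearCombination_single, secV, ← hBV, map_smul, map_smul, BV.repr_self, Finsupp.smul_apply,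
        Finsupp.smul_apply, Finsupp.single_apply, Finsupp.single_apply, smul_eq_mul, smul_eq_mul]
      by_cases h : w = n - z
      · rw [if_pos (show n - w = z by omega), if_pos h, h]; ring
      · rw [if_neg (show ¬ n - w = z by omega), if_neg h]; ring
  have hc : ∀ z, 0 ≤ z → cU q z = 1 := fun z hz => by rw [cU, show (-z).toNat = 0 by omega, pow_zero]
  have hd : ∀ z, z < 0 → cU p (n - z) = 1 := fun z hz => by
    rw [cU, show (-(n - z)).toNat = 0 by omega, pow_zero]
  refine ⟨fun u v h => Finsupp.ext fun z => ?_, fun g f => ⟨fun h => ?_, ?_⟩⟩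
  · obtain ⟨h1, h2⟩ := Prod.ext_iff.1 h
    by_cases hz : 0 ≤ z
    · have e := congrArg (fun y => BV.repr y (n - z)) h2
      change BV.repr (ΦV u) (n - z) = BV.repr (ΦV v) (n - z) at e
      rw [hV, hV, sub_sub_cancel, if_pos hz, one_mul, one_mul] at e
      exact e
    · have e := congrArg (fun y => BU.repr y z) h1
      change BU.repr (ΦU u) z = BU.repr (ΦU v) z at e
      rw [hU, hU, if_neg hz, one_mul, one_mul] at e
      exact e
  · have hco : ∀ z, cU q z * BU.repr g z = cU p (n - z) * BV.repr f (n - z) := fun z => by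
      rw [← hcoef1, ← hcoef2, h]
    let u : ℤ →₀ R := Finsupp.onFinset
      ((BU.repr g).support ∪ (BV.repr f).support.image (fun w => n - w))
      (fun z => if 0 ≤ z then BV.repr f (n - z) else BU.repr g z) (fun z hz => by
        rw [Finset.mem_union]
        by_cases h0 : 0 ≤ z
        · rw [if_pos h0] at hz
          exact Or.inr (Finset.mem_image.2 ⟨n - z, Finsupp.mem_support_iff.2 hz, by ring⟩)
        · rw [if_neg h0] at hz
          exact Or.inl (Finsupp.mem_support_iff.2 hz))
    refine ⟨u, BU.repr.injective (Finsupp.ext fun z => ?_), BV.repr.injective (Finsupp.ext fun w => ?_)⟩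
    · change BU.repr (ΦU u) z = _
      rw [hU, Finsupp.onFinset_apply]
      split_ifs with h0
      · rw [← hco, hc z h0, one_mul]
      · rw [one_mul]
    · change BV.repr (ΦV u) w = _
      rw [hV, Finsupp.onFinset_apply]
      split_ifs with h0
      · rw [sub_sub_cancel, one_mul]
      · rw [hco, hd _ (not_le.1 h0), one_mul, sub_sub_cancel]
  · rintro ⟨u, rfl, rfl⟩
    refine AddMonoidAlgebra.coeff_injective (Finsupp.ext fun z => ?_)
    rw [hcoef1, hcoef2]
    change cU q z * BU.repr (ΦU u) z = cU p (n - z) * BV.repr (ΦV u) (n - z)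
    rw [hU, hV, sub_sub_cancel]
    split_ifs with h0
    · rw [hc z h0]; ring
    · rw [hd z (not_le.1 h0)]; ring

end Groth.Agent.SpinNodeLib
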