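import Groth.Prelude.Def_W4c5spincurvestfNode
import Mathlib

/-!
# Coordinates on `R[[x, y]]/(xy - π)` over an adically complete base
-/

universe u

namespace Groth.Agent.SpinNodeLib

open SpinCurv Finset

variable {R : Type u} [CommRing R] {I : Ideal R} [IsAdicComplete I R] {π : R}

theorem smodEq_pow_iff (n : ℕ) (a b : R) : a ≡ b [SMOD (I ^ n • ⊤ : Submodule R R)] ↔ a - b ∈ I ^ n := by
  rw [SModEq.sub_mem, smul_eq_mul, Ideal.mul_top]

/-- The series `∑ π ^ j * a j` converges. -/
theorem exists_sum (hπ : π ∈ I) (a : ℕ → R) :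
    ∃! L : R, ∀ n, L - ∑ j ∈ range n, π ^ j * a j ∈ I ^ n := by
  obtain ⟨L, hL⟩ := IsPrecomplete.prec (I := I) inferInstance (f := fun n => ∑ j ∈ range n, π ^ j * a j)
    (fun {m n} h => by
      rw [smodEq_pow_iff]
      rw [← neg_mem_iff, neg_sub, ← sum_range_add_sum_Ico _ h, add_sub_cancel_left]
      refine sum_mem fun j hj => Ideal.mul_mem_right _ _ ?_
      exact Ideal.pow_le_pow_right (mem_Ico.1 hj).1 (Ideal.pow_mem_pow hπ j))
  refine ⟨L, fun n => ?_, fun L' hL' => ?_⟩
  · rw [← neg_mem_iff, neg_sub, ← smodEq_pow_iff]; exact hL n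
  · refine sub_eq_zero.1 (IsHausdorff.haus (I := I) inferInstance _ fun n => ?_)
    rw [smodEq_pow_iff, sub_zero]
    have := add_mem (hL' n) ((smodEq_pow_iff n _ _).1 (hL n))
    rwa [sub_add_sub_cancel] at this

/-- The sum of `π ^ j * a j`. -/
noncomputable def piSum (hπ : π ∈ I) (a : ℕ → R) : R := (exists_sum hπ a).exists.choose

theorem piSum_spec (hπ : π ∈ I) (a : ℕ → R) (n : ℕ) : piSum hπ a - ∑ j ∈ range n, π ^ j * a j ∈ I ^ n :=
  (exists_sum hπ a).exists.choose_spec n

theorem piSum_eq (hπ : π ∈ I) (a : ℕ → R) (L : R) (h : ∀ n, L - ∑ j ∈ range n, π ^ j * a j ∈ I ^ n) :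
    piSum hπ a = L :=
  (exists_sum hπ a).unique (piSum_spec hπ a) h

theorem piSum_add (hπ : π ∈ I) (a b : ℕ → R) : piSum hπ (a + b) = piSum hπ a + piSum hπ b :=
  piSum_eq hπ _ _ fun n => by
    simp only [Pi.add_apply, mul_add, sum_add_distrib, add_sub_add_comm]
    exact add_mem (piSum_spec hπ a n) (piSum_spec hπ b n)

theorem piSum_smul (hπ : π ∈ I) (r : R) (a : ℕ → R) : piSum hπ (r • a) = r * piSum hπ a :=
  piSum_eq hπ _ _ fun n => by
    simp only [Pi.smul_apply, smul_eq_mul, mul_left_comm _ r, ← mul_sum, ← mul_sub]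
    exact Ideal.mul_mem_left _ _ (piSum_spec hπ a n)

theorem piSum_succ (hπ : π ∈ I) (a : ℕ → R) : piSum hπ a = a 0 + π * piSum hπ (fun j => a (j + 1)) :=
  piSum_eq hπ _ _ fun n => by
    cases n with
    | zero => simp
    | succ n =>
      rw [sum_range_succ', pow_zero, one_mul, add_comm _ (a 0), add_sub_add_left_eq_sub,
        sum_congr rfl fun j _ => show π ^ (j + 1) * a (j + 1) = π * (π ^ j * a (j + 1)) by ring, ← mul_sum,
        ← mul_sub, pow_succ']
      exact Ideal.mul_mem_mul hπ (piSum_spec hπ _ n)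

theorem piSum_zero (hπ : π ∈ I) : piSum hπ (0 : ℕ → R) = 0 :=
  piSum_eq hπ _ _ fun n => by simp

/-- The exponent `(i, j)`. -/
noncomputable def ex (i j : ℕ) : Fin 2 →₀ ℕ := Finsupp.single 0 i + Finsupp.single 1 j

@[simp] theorem ex_zero (i j : ℕ) : ex i j 0 = i := by simp [ex]

@[simp] theorem ex_one (i j : ℕ) : ex i j 1 = j := by simp [ex]

theorem ext_ex {s t : Fin 2 →₀ ℕ} (h0 : s 0 = t 0) (h1 : s 1 = t 1) : s = t :=
  Finsupp.ext fun l => by fin_cases l <;> assumption

theorem ex_self (s : Fin 2 →₀ ℕ) : ex (s 0) (s 1) = s := ext_ex (ex_zero _ _) (ex_one _ _)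

theorem ex_le (i j : ℕ) (s : Fin 2 →₀ ℕ) : ex i j ≤ s ↔ i ≤ s 0 ∧ j ≤ s 1 := by
  refine ⟨fun h => ⟨by simpa using h 0, by simpa using h 1⟩, fun h => fun l => ?_⟩
  fin_cases l
  · simpa using h.1
  · simpa using h.2

theorem X_zero : (MvPowerSeries.X 0 : MvPowerSeries (Fin 2) R) = MvPowerSeries.monomial (ex 1 0) 1 := by
  simp [ex, MvPowerSeries.X_def]

theorem X_one : (MvPowerSeries.X 1 : MvPowerSeries (Fin 2) R) = MvPowerSeries.monomial (ex 0 1) 1 := by
  simp [ex, MvPowerSeries.X_def]

theorem coeff_X_zero_mul (f : MvPowerSeries (Fin 2) R) (i j : ℕ) :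
    MvPowerSeries.coeff (ex i j) (MvPowerSeries.X 0 * f) =
      if 1 ≤ i then MvPowerSeries.coeff (ex (i - 1) j) f else 0 := by
  rw [X_zero, MvPowerSeries.coeff_monomial_mul]
  simp only [ex_le, ex_zero, ex_one, Nat.zero_le, and_true, one_mul]
  rw [show ex i j - ex 1 0 = ex (i - 1) j from ext_ex (by simp) (by simp)]

theorem coeff_X_one_mul (f : MvPowerSeries (Fin 2) R) (i j : ℕ) :
    MvPowerSeries.coeff (ex i j) (MvPowerSeries.X 1 * f) =
      if 1 ≤ j then MvPowerSeries.coeff (ex i (j - 1)) f else 0 := by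
  rw [X_one, MvPowerSeries.coeff_monomial_mul]
  simp only [ex_le, ex_zero, ex_one, Nat.zero_le, true_and, one_mul]
  rw [show ex i j - ex 0 1 = ex i (j - 1) from ext_ex (by simp) (by simp)]

/-- The diagonal through `z`. -/
noncomputable def diag (f : MvPowerSeries (Fin 2) R) (z : ℤ) (k : ℕ) : R :=
  MvPowerSeries.coeff (ex (z.toNat + k) ((-z).toNat + k)) f

/-- Coordinates of a series. -/
noncomputable def coordMv (hπ : π ∈ I) : MvPowerSeries (Fin 2) R →ₗ[R] ℤ → R where
  toFun f z := piSum hπ (diag f z)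
  map_add' f g := funext fun z => by
    rw [Pi.add_apply, ← piSum_add]; congr 1
  map_smul' r f := funext fun z => by
    rw [Pi.smul_apply, RingHom.id_apply, smul_eq_mul, ← piSum_smul]; congr 1

theorem coordMv_rel (hπ : π ∈ I) (g : MvPowerSeries (Fin 2) R) :
    coordMv hπ ((MvPowerSeries.X 0 * MvPowerSeries.X 1 - MvPowerSeries.C π) * g) = 0 := by
  refine funext fun z => piSum_eq hπ _ _ fun n => ?_
  rw [Pi.zero_apply, zero_sub, neg_mem_iff]
  cases n with
  | zero => simp
  | succ n =>
    have hd : ∀ k, diag ((MvPowerSeries.X 0 * MvPowerSeries.X 1 - MvPowerSeries.C π) * g) z k =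
        (if k = 0 then 0 else diag g z (k - 1)) - π * diag g z k := by
      intro k
      rw [diag, sub_mul, map_sub, mul_assoc, coeff_X_zero_mul, coeff_X_one_mul, MvPowerSeries.coeff_C_mul]
      rcases k with - | k
      · rw [if_pos rfl, diag]
        split_ifs with h1 h2 <;> first | rfl | omega
      · rw [if_pos (by omega), if_pos (by omega), if_neg (by omega)]
        rfl
    have : ∀ m, ∑ j ∈ range (m + 1), π ^ j * diag ((MvPowerSeries.X 0 * MvPowerSeries.X 1 - MvPowerSeries.C π) * g) z j =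
        -(π ^ (m + 1) * diag g z m) := by
      intro m
      induction m with
      | zero => simp [hd]
      | succ m ih => rw [sum_range_succ, ih, hd, if_neg (by omega), Nat.add_sub_cancel]; ring
    rw [this, neg_mem_iff]
    exact Ideal.mul_mem_right _ _ (Ideal.pow_mem_pow hπ _)

/-- A series with zero coordinates is a multiple of `xy - π`. -/
theorem mem_of_coordMv_eq_zero (hπ : π ∈ I) (f : MvPowerSeries (Fin 2) R) (h : coordMv hπ f = 0) :
    f ∈ Ideal.span {(MvPowerSeries.X 0 * MvPowerSeries.X 1 - MvPowerSeries.C π : MvPowerSeries (Fin 2) R)} := by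
  let g : MvPowerSeries (Fin 2) R := fun s =>
    piSum hπ fun k => diag f ((s 0 : ℤ) - s 1) (min (s 0) (s 1) + 1 + k)
  have hg : ∀ i j, MvPowerSeries.coeff (ex i j) g = piSum hπ fun k => diag f ((i : ℤ) - j) (min i j + 1 + k) := by
    intro i j
    change piSum hπ (fun k => diag f ((ex i j 0 : ℤ) - ex i j 1) (min (ex i j 0) (ex i j 1) + 1 + k)) = _
    rw [ex_zero, ex_one]
  refine Ideal.mem_span_singleton'.2 ⟨g, ?_⟩
  rw [mul_comm]
  refine MvPowerSeries.ext fun s => ?_
  rw [← ex_self s]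
  generalize s 0 = i, s 1 = j
  rw [sub_mul, map_sub, mul_assoc, coeff_X_zero_mul, coeff_X_one_mul, MvPowerSeries.coeff_C_mul, hg i j]
  have key := piSum_succ hπ fun k => diag f ((i : ℤ) - j) (min i j + k)
  have hij : diag f ((i : ℤ) - j) (min i j + 0) = MvPowerSeries.coeff (ex i j) f := by
    rw [diag]; congr 2; congr 1 <;> omega
  rw [hij] at key
  rw [show (fun k => diag f ((i : ℤ) - j) (min i j + (k + 1))) = fun k => diag f ((i : ℤ) - j) (min i j + 1 + k)
    from funext fun k => by congr 1; ring] at key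
  by_cases hi : 1 ≤ i
  · by_cases hj : 1 ≤ j
    · rw [if_pos hi, if_pos hj, hg]
      simp only [show ((i - 1 : ℕ) : ℤ) - ((j - 1 : ℕ) : ℤ) = (i : ℤ) - j by omega,
        show min (i - 1) (j - 1) + 1 = min i j by omega]
      rw [key]; ring
    · rw [if_pos hi, if_neg hj, zero_sub]
      have := congrFun h ((i : ℤ) - j)
      simp only [show min i j = 0 by omega, zero_add] at key ⊢
      change piSum hπ (fun k => diag f ((i : ℤ) - j) k) = 0 at this
      rw [this] at key
      linear_combination key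
  · rw [if_neg hi, zero_sub]
    have := congrFun h ((i : ℤ) - j)
    simp only [show min i j = 0 by omega, zero_add] at key ⊢
    change piSum hπ (fun k => diag f ((i : ℤ) - j) k) = 0 at this
    rw [this] at key
    linear_combination key

/-- Coordinates on `R[[x, y]]/(xy - π)`. -/
noncomputable def coord (hπ : π ∈ I) : NodeRing R π →ₗ[R] ℤ → R :=
  (Submodule.liftQ ((Ideal.span {(MvPowerSeries.X 0 * MvPowerSeries.X 1 - MvPowerSeries.C π :
      MvPowerSeries (Fin 2) R)}).restrictScalars R) (coordMv hπ) (fun p hp => by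
        obtain ⟨c, rfl⟩ := Ideal.mem_span_singleton.1 hp
        exact coordMv_rel hπ c)).comp
    (Submodule.Quotient.restrictScalarsEquiv R _).symm.toLinearMap

theorem coord_mk (hπ : π ∈ I) (f : MvPowerSeries (Fin 2) R) (z : ℤ) :
    coord hπ (Ideal.Quotient.mk _ f) z = piSum hπ (diag f z) := rfl

theorem coord_injective (hπ : π ∈ I) : Function.Injective (coord (π := π) hπ) := by
  intro a b h
  obtain ⟨f, rfl⟩ := Ideal.Quotient.mk_surjective a
  obtain ⟨g, rfl⟩ := Ideal.Quotient.mk_surjective b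
  refine Ideal.Quotient.eq.2 (mem_of_coordMv_eq_zero hπ _ ?_)
  rw [map_sub, sub_eq_zero]
  exact h

theorem coord_x_mul (hπ : π ∈ I) (a : NodeRing R π) (z : ℤ) :
    coord hπ (NodeRing.x R π * a) z = (if 0 < z then 1 else π) * coord hπ a (z - 1) := by
  obtain ⟨f, rfl⟩ := Ideal.Quotient.mk_surjective a
  rw [NodeRing.x, ← map_mul, coord_mk, coord_mk]
  split_ifs with hz
  · rw [one_mul]
    congr 1; funext k
    rw [diag, coeff_X_zero_mul, if_pos (by omega), diag]
    congr 2; congr 1 <;> omega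
  · rw [piSum_succ, diag, coeff_X_zero_mul, if_neg (by omega), zero_add]
    congr 2; funext k
    rw [diag, coeff_X_zero_mul, if_pos (by omega), diag]
    congr 2; congr 1 <;> omega

theorem coord_y_mul (hπ : π ∈ I) (a : NodeRing R π) (z : ℤ) :
    coord hπ (NodeRing.y R π * a) z = (if z < 0 then 1 else π) * coord hπ a (z + 1) := by
  obtain ⟨f, rfl⟩ := Ideal.Quotient.mk_surjective a
  rw [NodeRing.y, ← map_mul, coord_mk, coord_mk]
  split_ifs with hz
  · rw [one_mul]
    congr 1; funext k
    rw [diag, coeff_X_one_mul, if_pos (by omega), diag]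
    congr 2; congr 1 <;> omega
  · rw [piSum_succ, diag, coeff_X_one_mul, if_neg (by omega), zero_add]
    congr 2; funext k
    rw [diag, coeff_X_one_mul, if_pos (by omega), diag]
    congr 2; congr 1 <;> omega

theorem coord_algebraMap_mul (hπ : π ∈ I) (r : R) (a : NodeRing R π) (z : ℤ) :
    coord hπ (algebraMap R (NodeRing R π) r * a) z = r * coord hπ a z := by
  obtain ⟨f, rfl⟩ := Ideal.Quotient.mk_surjective a
  change coord hπ (Ideal.Quotient.mk _ (MvPowerSeries.C r * f)) z = _
  rw [coord_mk, coord_mk, ← piSum_smul]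
  congr 1; funext k
  rw [diag, MvPowerSeries.coeff_C_mul, Pi.smul_apply, smul_eq_mul, diag]

theorem coeff_toMv (l : Fin 2) (f : PowerSeries R) (s : Fin 2 →₀ ℕ) :
    MvPowerSeries.coeff s (PowerSeries.toMvPowerSeries (σ := Fin 2) l f) =
      if s = Finsupp.single l (s l) then PowerSeries.coeff (s l) f else 0 := by
  rw [PowerSeries.toMvPowerSeries_apply]
  split_ifs with h
  · have he : s = Finsupp.embDomain (Function.Embedding.punit l) (Finsupp.single () (s l)) := by
      rw [Finsupp.embDomain_single]; exact h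
    conv_lhs => rw [he]
    exact MvPowerSeries.coeff_embDomain_rename _ _ _
  · refine MvPowerSeries.coeff_rename_eq_zero _ _ ?_
    rintro ⟨t, rfl⟩
    apply h
    rw [Finsupp.unique_single t]
    simp

theorem coord_ofX (hπ : π ∈ I) (f : PowerSeries R) (z : ℤ) :
    coord hπ (NodeRing.ofX R π f) z = if 0 ≤ z then PowerSeries.coeff z.toNat f else 0 := by
  rw [NodeRing.ofX, coord_mk, piSum_succ]
  rw [show (fun j => diag (PowerSeries.toMvPowerSeries (σ := Fin 2) 0 f) z (j + 1)) = 0 from funext fun j => by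
    rw [diag, coeff_toMv, if_neg, Pi.zero_apply]
    intro h
    have := DFunLike.congr_fun h 1
    simp at this, piSum_zero, mul_zero, add_zero, diag, coeff_toMv]
  split_ifs with h1 h2 h2
  · simp
  · have := DFunLike.congr_fun h1 1
    simp at this
    omega
  · exfalso; apply h1; refine ext_ex (by simp) (by simp; omega)
  · rfl

theorem coord_ofY (hπ : π ∈ I) (f : PowerSeries R) (z : ℤ) :
    coord hπ (NodeRing.ofY R π f) z = if z ≤ 0 then PowerSeries.coeff (-z).toNat f else 0 := by
  rw [NodeRing.ofY, coord_mk, piSum_succ]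
  rw [show (fun j => diag (PowerSeries.toMvPowerSeries (σ := Fin 2) 1 f) z (j + 1)) = 0 from funext fun j => by
    rw [diag, coeff_toMv, if_neg, Pi.zero_apply]
    intro h
    have := DFunLike.congr_fun h 0
    simp at this, piSum_zero, mul_zero, add_zero, diag, coeff_toMv]
  split_ifs with h1 h2 h2
  · simp
  · have := DFunLike.congr_fun h1 0
    simp at this
    omega
  · exfalso; apply h1; refine ext_ex (by simp; omega) (by simp)
  · rfl

end Groth.Agent.SpinNodeLib
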